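import Groth.Agent.SubDesc5.Sec
import Groth.Agent.RelVALib.DirImgFull
import Groth.Agent.DQCoh.ResDescent
import Groth.Agent.DCat.FlatPull
import Groth.Agent.CAlgH3.LocFreeFactor

/-!
# Descent of invariant subbundles along a double cover
-/

set_option autoImplicit false
set_option linter.unusedSectionVars false
set_option linter.style.haveILetI false
set_option backward.isDefEq.respectTransparency.types false
set_option maxHeartbeats 1000000

universe u

open CategoryTheory CategoryTheory.Limits AlgebraicGeometry Opposite TopologicalSpace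
open Groth.Agent.Coherent Groth.Agent.PicLib Groth.Agent.CAlgH3.LocFreeFactor

namespace Groth.Agent.SubDesc5

variable {X Y : Scheme.{u}} (π : X ⟶ Y) (σ : X ⟶ X) (hσπ : σ ≫ π = π)

theorem exists_invertible_data [IsIntegral X] [IsIntegral Y] [X.IsSeparated] [IsFinite π] (hσ1 : σ ≠ 𝟙 X)
    (hσ : σ ≫ σ = 𝟙 X) {U : Y.Opens} (hU : DblCov8.Good π U) (hneY : Nonempty ↥U)
    (hne : Nonempty ↥(π ⁻¹ᵁ U)) :
    Function.Injective (π.app U) ∧
      (∀ b : Γ(X, π ⁻¹ᵁ U), sB π σ hσπ U b = b → ∃ d c : Γ(Y, U), d ≠ 0 ∧ π.app U d * b = π.app U c) ∧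
      ∃ Δ : Γ(X, π ⁻¹ᵁ U), Δ ≠ 0 ∧ sB π σ hσπ U Δ = -Δ := by
  haveI := hneY
  haveI : Nonempty (π ⁻¹ᵁ U).toScheme := hne
  haveI : Nonempty U.toScheme := hneY
  haveI : IsDomain Γ(Y, U) := IsIntegral.component_integral _
  haveI : IsDomain Γ(X, π ⁻¹ᵁ U) := IsIntegral.component_integral _
  obtain ⟨b₀, hb₀⟩ := exists_sB_ne π σ hσπ hU.affine hne hσ1
  algebraize [(π.app U).hom]
  haveI : Module.Free Γ(Y, U) Γ(X, π ⁻¹ᵁ U) := hU.free
  haveI : Module.Finite Γ(Y, U) Γ(X, π ⁻¹ᵁ U) := DblCov8.finite_app π hU.affine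
  haveI : Nontrivial Γ(X, π ⁻¹ᵁ U) := inferInstance
  have hinj : Function.Injective (π.app U) := by
    intro a a' h
    let bs := Module.Free.chooseBasis Γ(Y, U) Γ(X, π ⁻¹ᵁ U)
    obtain ⟨i⟩ := bs.index_nonempty
    have h' : a • bs i = a' • bs i := by
      rw [Algebra.smul_def, Algebra.smul_def]
      exact congrArg (· * bs i) h
    have h'' := congrArg (fun z => bs.repr z i) h'
    simpa using h''
  refine ⟨hinj, fun b hb => ?_, b₀ - sB π σ hσπ U b₀, sub_ne_zero.2 (Ne.symm hb₀), ?_⟩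
  · have hdep : ¬ LinearIndependent Γ(Y, U) ![1, b, b₀] := fun hli => by
      have := hli.fintype_card_le_finrank
      rw [Fintype.card_fin, hU.rank] at this
      omega
    obtain ⟨g, hg, i, hi⟩ := Fintype.not_linearIndependent_iff.1 hdep
    simp only [Fin.sum_univ_three, Matrix.cons_val_zero, Matrix.cons_val_one, Matrix.head_cons, Matrix.cons_val_two,
      Matrix.tail_cons, Algebra.smul_def, mul_one] at hg
    change π.app U (g 0) + π.app U (g 1) * b + π.app U (g 2) * b₀ = 0 at hg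
    have hg' := congrArg (sB π σ hσπ U) hg
    rw [map_add, map_add, map_mul, map_mul, map_zero, sB_app, sB_app, sB_app, hb] at hg'
    have h2 : π.app U (g 2) * (b₀ - sB π σ hσπ U b₀) = 0 := by linear_combination hg - hg'
    have h20 : g 2 = 0 := hinj (by
      rw [map_zero]; exact (mul_eq_zero.1 h2).resolve_right (sub_ne_zero.2 (Ne.symm hb₀)))
    rw [h20, map_zero, zero_mul, add_zero] at hg
    refine ⟨g 1, -g 0, fun h10 => ?_, by rw [map_neg]; linear_combination hg⟩
    rw [h10, map_zero, zero_mul, add_zero] at hg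
    have h00 : g 0 = 0 := hinj (by rw [map_zero]; exact hg)
    fin_cases i <;> simp_all
  · rw [map_sub, sB_sB π σ hσπ hσ, neg_sub]

theorem eq_zero_of_smul {M : X.Modules} {I : Type u} [Fintype I] {W : X.Opens} [IsDomain Γ(X, W)]
    {e : I → Γ(M, W)} (hb : IsBasisOn M W e) {a : Γ(X, W)} (ha : a ≠ 0) {x : Γ(M, W)} (h : a • x = 0) :
    x = 0 := by
  have h1 : hb.coef le_rfl (a • x) = 0 :=
    hb.coef_eq _ (by simp only [Pi.zero_apply, zero_smul, Finset.sum_const_zero, h])
  rw [hb.coef_smul] at h1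
  rw [← hb.coef_spec le_rfl x]
  refine Finset.sum_eq_zero fun i _ => ?_
  rw [(mul_eq_zero.1 (congrFun h1 i)).resolve_left ha, zero_smul]

/-- The local computation. -/
theorem app_eq_zero [IsIntegral X] [IsIntegral Y] [X.IsSeparated] [IsFinite π] (hσ1 : σ ≠ 𝟙 X) (hσ : σ ≫ σ = 𝟙 X)
    {E : Y.Modules} {F : X.Modules} (i : F ⟶ (Scheme.Modules.pullback π).obj E)
    (j : (Scheme.Modules.pullback σ).obj F ⟶ F) (hj : j ≫ i = (Scheme.Modules.pullback σ).map i ≫ lin π σ hσπ E)
    {Q : X.Modules} (q : (Scheme.Modules.pullback π).obj E ⟶ Q) (hiq : i ≫ q = 0)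
    {U : Y.Opens} (hU : DblCov8.Good π U) (hneY : Nonempty ↥U) (hne : Nonempty ↥(π ⁻¹ᵁ U))
    (h2 : (2 : Γ(X, π ⁻¹ᵁ U)) ≠ 0)
    {I J : Type u} [Fintype I] [Fintype J] {e : I → Γ(E, U)} (he : IsBasisOn E U e)
    {f : J → Γ((Scheme.Modules.pushforward π).obj Q, U)} (hf : IsBasisOn ((Scheme.Modules.pushforward π).obj Q) U f)
    (m : Γ(F, π ⁻¹ᵁ U)) :
    (i ≫ (Scheme.Modules.pullback π).map
      (((Scheme.Modules.pullbackPushforwardAdjunction π).homEquiv _ _) q)).app (π ⁻¹ᵁ U) m = 0 := by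
  classical
  haveI := hneY
  haveI : Nonempty (π ⁻¹ᵁ U).toScheme := hne
  haveI : Nonempty U.toScheme := hneY
  haveI : IsDomain Γ(Y, U) := IsIntegral.component_integral _
  haveI : IsDomain Γ(X, π ⁻¹ᵁ U) := IsIntegral.component_integral _
  let φ := ((Scheme.Modules.pullbackPushforwardAdjunction π).homEquiv _ _) q
  let ψ := (Scheme.Modules.pullback π).map φ
  obtain ⟨hinj, hfix, Δ, hΔ, hsΔ⟩ := exists_invertible_data π σ hσπ hσ1 hσ hU hneY hne
  have heP := he.pull π
  have hfP := hf.pull π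
  have hcoord : ∀ s : Γ((Scheme.Modules.pullback π).obj E, π ⁻¹ᵁ U),
      ∑ l, heP.coef le_rfl s l • pullSec π (e l) = s := fun s => by
    refine Eq.trans (Finset.sum_congr rfl fun l _ => ?_) (heP.coef_spec le_rfl s)
    exact congrArg _ (resM_self _ _ _).symm
  have key : ∀ (v : I → Γ(X, π ⁻¹ᵁ U)), (∀ l, sB π σ hσπ U (v l) = v l) → ∀ n : Γ(F, π ⁻¹ᵁ U),
      i.app _ n = ∑ l, v l • pullSec π (e l) → ψ.app _ (i.app _ n) = 0 := by
    intro v hv n hn
    choose d c hd hdc using fun l => hfix (v l) (hv l)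
    let D : Γ(Y, U) := ∏ l, d l
    let g : I → Γ(Y, U) := fun l => (∏ l' ∈ Finset.univ.erase l, d l') * c l
    have hg : ∀ l, π.app U D * v l = π.app U (g l) := fun l => by
      simp only [D, g, ← Finset.mul_prod_erase Finset.univ d (Finset.mem_univ l), map_mul, ← hdc l]
      ring
    let x : Γ(E, U) := ∑ l, g l • e l
    have hx : pullSec π x = π.app U D • i.app _ n := by
      rw [hn, Finset.smul_sum]
      refine (map_sum (((Scheme.Modules.pullbackPushforwardAdjunction π).unit.app E).app U).hom _ _).trans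
        (Finset.sum_congr rfl fun l _ => ?_)
      rw [smul_smul, hg l]
      exact pullSec_smul π (g l) (e l)
    have hφ : φ.app U x = 0 := by
      show q.app (π ⁻¹ᵁ U) (pullSec π x) = 0
      rw [hx, Scheme.Modules.Hom.app_smul]
      rw [show q.app _ (i.app _ n) = 0 from congr(($hiq).app (π ⁻¹ᵁ U) n), smul_zero]
    refine eq_zero_of_smul hfP (a := π.app U D) ?_ ?_
    · exact fun h => (Finset.prod_ne_zero_iff.2 fun l _ => hd l) (hinj (h.trans (map_zero _).symm))
    · rw [← Scheme.Modules.Hom.app_smul, ← hx]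
      refine (H8Lim.map_app_pullSec π φ x).trans ?_
      rw [hφ, H8Lim.pullSec_zero]
  show ψ.app _ (i.app _ m) = 0
  obtain ⟨m', hm'⟩ := exists_tau_eq π σ hσπ i j hj U m
  let c := heP.coef le_rfl (i.app _ m)
  have hc : i.app _ m = ∑ l, c l • pullSec π (e l) := (hcoord _).symm
  have hc' : i.app _ m' = ∑ l, sB π σ hσπ U (c l) • pullSec π (e l) := by
    rw [hm', hc, tau_coord]
  have h1 : ψ.app _ (i.app _ (m + m')) = 0 := key (fun l => c l + sB π σ hσπ U (c l))
    (fun l => by rw [map_add, sB_sB π σ hσπ hσ, add_comm]) _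
    (by simp only [map_add, hc, hc', add_smul, Finset.sum_add_distrib])
  have h3 : ψ.app _ (i.app _ (Δ • (m - m'))) = 0 := key (fun l => Δ * (c l - sB π σ hσπ U (c l)))
    (fun l => by rw [map_mul, map_sub, sB_sB π σ hσπ hσ, hsΔ]; ring) _
    (by simp only [Scheme.Modules.Hom.app_smul, map_sub, hc, hc', mul_smul, sub_smul, smul_sub,
      Finset.sum_sub_distrib, Finset.smul_sum])
  rw [Scheme.Modules.Hom.app_smul, Scheme.Modules.Hom.app_smul] at h3
  have h4 := eq_zero_of_smul hfP hΔ h3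
  rw [map_sub, map_sub, sub_eq_zero] at h4
  rw [map_add, map_add, ← h4] at h1
  exact eq_zero_of_smul hfP h2 ((two_smul _ _).trans h1)

end Groth.Agent.SubDesc5
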