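import Groth.Agent.DblCov8.Scheme
import Groth.Agent.PicLib.BasisOn
import Groth.Agent.H8Lim.ModSections
import Groth.Agent.FModLib.Compl

/-!
# The canonical linearisation on sections of a pullback along a double cover
-/

set_option autoImplicit false
set_option linter.unusedSectionVars false
set_option backward.isDefEq.respectTransparency.types false

universe u

open CategoryTheory CategoryTheory.Limits AlgebraicGeometry Opposite TopologicalSpace
open Groth.Agent.Coherent Groth.Agent.PicLib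

namespace Groth.Agent.SubDesc5

variable {X Y : Scheme.{u}} (π : X ⟶ Y) (σ : X ⟶ X) (hσπ : σ ≫ π = π)

/-- The linearisation. -/
noncomputable def lin (E : Y.Modules) :
    (Scheme.Modules.pullback σ).obj ((Scheme.Modules.pullback π).obj E) ⟶ (Scheme.Modules.pullback π).obj E :=
  (Scheme.Modules.pullbackComp σ π).hom.app E ≫ (Scheme.Modules.pullbackCongr hσπ).hom.app E

include hσπ in
theorem pre_le (U : Y.Opens) : π ⁻¹ᵁ U ≤ σ ⁻¹ᵁ (π ⁻¹ᵁ U) := le_of_eq (by rw [← Scheme.Hom.comp_preimage, hσπ])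

/-- The involution on functions. -/
noncomputable def sB (U : Y.Opens) : Γ(X, π ⁻¹ᵁ U) →+* Γ(X, π ⁻¹ᵁ U) :=
  (σ.appLE _ _ (pre_le π σ hσπ U)).hom

theorem appLE_congr' {A B : Scheme.{u}} {f g : A ⟶ B} (h : f = g) (U : B.Opens) (V : A.Opens)
    (e : V ≤ f ⁻¹ᵁ U) (e' : V ≤ g ⁻¹ᵁ U) : f.appLE U V e = g.appLE U V e' := by
  subst h; rfl

theorem sB_app (U : Y.Opens) (a : Γ(Y, U)) : sB π σ hσπ U (π.app U a) = π.app U a := by
  show (π.app U ≫ σ.appLE _ _ _) a = π.app U a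
  rw [Scheme.Hom.app_eq_appLE, Scheme.Hom.appLE_comp_appLE, appLE_congr' hσπ U _ _ le_rfl]

theorem sB_sB (hσ : σ ≫ σ = 𝟙 X) (U : Y.Opens) (b : Γ(X, π ⁻¹ᵁ U)) : sB π σ hσπ U (sB π σ hσπ U b) = b := by
  show (σ.appLE _ _ _ ≫ σ.appLE _ _ _) b = b
  refine (DFunLike.congr_fun (congrArg CommRingCat.Hom.hom ((Scheme.Hom.appLE_comp_appLE _ _ _ _ _ _ _).trans
    (appLE_congr' hσ _ _ _ le_rfl))) b).trans ?_
  simp [Scheme.Hom.appLE]
  rfl

/-- The linearisation on sections. -/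
noncomputable def tau (E : Y.Modules) (U : Y.Opens) (s : Γ((Scheme.Modules.pullback π).obj E, π ⁻¹ᵁ U)) :
    Γ((Scheme.Modules.pullback π).obj E, π ⁻¹ᵁ U) :=
  resM _ (pre_le π σ hσπ U) ((lin π σ hσπ E).app (σ ⁻¹ᵁ (π ⁻¹ᵁ U)) (pullSec σ s))

theorem tau_smul (E : Y.Modules) (U : Y.Opens) (b : Γ(X, π ⁻¹ᵁ U))
    (s : Γ((Scheme.Modules.pullback π).obj E, π ⁻¹ᵁ U)) :
    tau π σ hσπ E U (b • s) = sB π σ hσπ U b • tau π σ hσπ E U s := by
  rw [tau, pullSec_smul, Scheme.Modules.Hom.app_smul, resM_smul]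
  rfl

theorem tau_sum (E : Y.Modules) (U : Y.Opens) {I : Type*} (t : Finset I)
    (s : I → Γ((Scheme.Modules.pullback π).obj E, π ⁻¹ᵁ U)) :
    tau π σ hσπ E U (∑ i ∈ t, s i) = ∑ i ∈ t, tau π σ hσπ E U (s i) :=
  map_sum (((resM ((Scheme.Modules.pullback π).obj E) (pre_le π σ hσπ U)) : _ →+ _).comp
    ((((lin π σ hσπ E).app (σ ⁻¹ᵁ (π ⁻¹ᵁ U))).hom).comp
      (((Scheme.Modules.pullbackPushforwardAdjunction σ).unit.app ((Scheme.Modules.pullback π).obj E)).app
        (π ⁻¹ᵁ U)).hom)) s t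

theorem tau_pullSec (E : Y.Modules) (U : Y.Opens) (x : Γ(E, U)) :
    tau π σ hσπ E U (pullSec π x) = pullSec π x := by
  show resM _ _ (((Scheme.Modules.pullbackCongr hσπ).hom.app E).app _
    (((Scheme.Modules.pullbackComp σ π).hom.app E).app _ (pullSec σ (pullSec π x)))) = _
  refine (congrArg (fun t => resM _ _ (((Scheme.Modules.pullbackCongr hσπ).hom.app E).app _ t))
    (H8Lim.pullbackComp_hom_app_pullSec σ π E x)).trans ?_
  refine (congrArg (resM _ _) (FModLib.pullbackCongr_app_pullSec hσπ E x)).trans ?_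
  rw [resM_resM]
  exact resM_self _ _ _

/-- Coefficients with respect to a pulled back basis are conjugated. -/
theorem tau_coord {E : Y.Modules} {U : Y.Opens} {I : Type u} [Fintype I] (e : I → Γ(E, U))
    (c : I → Γ(X, π ⁻¹ᵁ U)) :
    tau π σ hσπ E U (∑ i, c i • pullSec π (e i)) = ∑ i, sB π σ hσπ U (c i) • pullSec π (e i) := by
  rw [tau_sum]
  exact Finset.sum_congr rfl fun i _ => by rw [tau_smul, tau_pullSec]

/-- A submodule preserved by the linearisation is preserved on sections. -/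
theorem exists_tau_eq {E : Y.Modules} {F : X.Modules} (i : F ⟶ (Scheme.Modules.pullback π).obj E)
    (j : (Scheme.Modules.pullback σ).obj F ⟶ F) (hj : j ≫ i = (Scheme.Modules.pullback σ).map i ≫ lin π σ hσπ E)
    (U : Y.Opens) (m : Γ(F, π ⁻¹ᵁ U)) :
    ∃ m' : Γ(F, π ⁻¹ᵁ U), i.app _ m' = tau π σ hσπ E U (i.app _ m) := by
  refine ⟨resM F (pre_le π σ hσπ U) (j.app _ (pullSec σ m)), ?_⟩
  rw [app_resM]
  refine congrArg (resM _ _) ?_
  rw [← H8Lim.map_app_pullSec σ i m]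
  exact congr(($hj).app (σ ⁻¹ᵁ (π ⁻¹ᵁ U)) (pullSec σ m))

/-- An involution that fixes the functions over a nonempty open set is the identity. -/
theorem exists_sB_ne [IsIntegral X] [X.IsSeparated] [IsAffineHom π] {U : Y.Opens} (hU : IsAffineOpen U)
    (hne : Nonempty ↥(π ⁻¹ᵁ U)) (hσ1 : σ ≠ 𝟙 X) : ∃ b, sB π σ hσπ U b ≠ b := by
  by_contra h
  push Not at h
  have hW : IsAffineOpen (π ⁻¹ᵁ U) := hU.preimage π
  have hid : σ.appLE _ _ (pre_le π σ hσπ U) = 𝟙 _ := CommRingCat.hom_ext (RingHom.ext h)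
  have e := hW.SpecMap_appLE_fromSpec σ hW (pre_le π σ hσπ U)
  rw [hid, Spec.map_id, Category.id_comp] at e
  haveI : IsDominant hW.fromSpec := ⟨by
    show Dense (Set.range hW.fromSpec)
    rw [hW.range_fromSpec]
    exact (π ⁻¹ᵁ U).2.dense (Set.nonempty_coe_sort.1 hne)⟩
  exact hσ1 (ext_of_isDominant hW.fromSpec (e.symm.trans (Category.comp_id _).symm))

end Groth.Agent.SubDesc5
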